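import Cfsg.Agent.Lib.OrderJanko.Setup
import Cfsg.Agent.Lib.GWDihedral.Main
import Cfsg.Agent.Lib.PSLClassSizes.CN
import Cfsg.Prelude.Def_CaseTheorems
import Cfsg.Prelude.Def_Sporadic

/-!
# Consumers of the classification of abelian Sylow 2-subgroups (owner: helper80)

* `WalterStatement` : simple groups with abelian Sylow 2-subgroups, as a proposition
* `eight_cases` : a Sylow 2-subgroup of order eight of a simple group is elementary or dihedral
* `card_eight_of_walter` : simple groups with Sylow 2-subgroups of order eight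
-/

set_option autoImplicit false
set_option linter.unusedSectionVars false
set_option linter.style.haveILetI false

namespace Cfsg.Agent.AbelianSylowUse

open Cfsg Subgroup OrderJanko SmallOrders

universe u

/-- Simple groups with abelian Sylow 2-subgroups. -/
def WalterStatement : Prop :=
  ∀ (G : Type u) [Group G] [Finite G] [IsSimpleGroup G], ¬ IsMulCommutative G →
    ∀ S : Sylow 2 G, IsMulCommutative (S : Subgroup G) →
    (∃ a : ℕ, 2 ≤ a ∧ ∃ (F : Type) (_ : Field F) (_ : Fintype F), Fintype.card F = 2 ^ a ∧ Nonempty (G ≃* Matrix.ProjectiveSpecialLinearGroup (Fin 2) F)) ∨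
      (∃ (F : Type) (_ : Field F) (_ : Fintype F), (Fintype.card F % 8 = 3 ∨ Fintype.card F % 8 = 5) ∧ Nonempty (G ≃* Matrix.ProjectiveSpecialLinearGroup (Fin 2) F)) ∨
      Cfsg.IsRee G ∨ Cfsg.IsJ1 G

variable {G : Type u} [Group G] [Finite G] [IsSimpleGroup G]

/-- A Sylow 2-subgroup of order eight of a simple group is elementary or dihedral. -/
theorem eight_cases (hG : ¬ IsMulCommutative G) (S : Sylow 2 G) (h8 : Nat.card (S : Subgroup G) = 8) :
    (∀ x ∈ (S : Subgroup G), x * x = 1) ∨ Nonempty ((S : Subgroup G) ≃* DihedralGroup 4) := by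
  classical
  have : Fact (Nat.Prime 2) := ⟨Nat.prime_two⟩
  rcases eight_types h8 with h | h | ⟨⟨e⟩⟩ | h
  · exact Or.inl fun x hx => congrArg Subtype.val (h ⟨x, hx⟩)
  · by_cases he : ∀ x ∈ (S : Subgroup G), x * x = 1
    · exact Or.inl he
    exfalso
    push Not at he
    obtain ⟨x, hx, hxx⟩ := he
    let φ : ↥(S : Subgroup G) →* ↥(S : Subgroup G) :=
      MonoidHom.mk' (fun a => a * a) fun a b => Commute.mul_mul_mul_comm (mul_comm' b a) a b
    have hmul := φ.ker.card_mul_index
    rw [index_ker, h8] at hmul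
    have hk1 : Nat.card φ.ker ≠ 1 := by
      obtain ⟨z, hz⟩ := exists_prime_orderOf_dvd_card' (G := ↥(S : Subgroup G)) 2 (by rw [h8]; norm_num)
      intro h1
      have : z ∈ (⊥ : Subgroup _) := by
        rw [← eq_bot_of_card_eq φ.ker h1]
        show z * z = 1
        have h2 := pow_orderOf_eq_one z
        rwa [hz, pow_two] at h2
      rw [mem_bot.mp this, orderOf_one] at hz
      omega
    have hk8 : Nat.card φ.range ≠ 1 := by
      intro h1
      have : φ ⟨x, hx⟩ ∈ (⊥ : Subgroup _) := by
        rw [← eq_bot_of_card_eq φ.range h1]; exact ⟨_, rfl⟩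
      exact hxx (congrArg Subtype.val (mem_bot.mp this))
    -- a subgroup of order two which is invariant under the normaliser
    obtain ⟨D, hD2, hDinv⟩ : ∃ D : Subgroup ↥(S : Subgroup G), Nat.card D = 2 ∧
        ∀ n ∈ normalizer ((S : Subgroup G) : Set G), ∀ a ∈ D, ∀ b : ↥(S : Subgroup G),
          (b : G) = n * (a : G) * n⁻¹ → b ∈ D := by
      have hcases : Nat.card φ.ker = 2 ∨ Nat.card φ.range = 2 := by
        have h1 : Nat.card φ.ker ∣ 8 := ⟨_, hmul.symm⟩
        have h2 := Nat.le_of_dvd (by norm_num) h1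
        generalize Nat.card φ.ker = a at *
        interval_cases a <;> omega
      rcases hcases with hh | hh
      · refine ⟨_, hh, fun n _ a ha b hb => Subtype.ext ?_⟩
        show (b : G) * b = 1
        rw [hb, conj_mul, show (a : G) * a = 1 from congrArg Subtype.val ha, mul_one, mul_inv_cancel]
      · refine ⟨_, hh, fun n hn' a ha b hb => ?_⟩
        obtain ⟨c, rfl⟩ := ha
        refine ⟨⟨n * c * n⁻¹, (mem_normalizer_iff.mp hn' _).mp c.2⟩, Subtype.ext ?_⟩
        show n * (c : G) * n⁻¹ * (n * c * n⁻¹) = b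
        rw [hb, conj_mul]
        rfl
    obtain ⟨u, hu⟩ := exists_prime_orderOf_dvd_card' (G := D) 2 (by rw [hD2])
    have hune : (u : ↥(S : Subgroup G)) ≠ 1 := fun h1 => by
      rw [show u = 1 from Subtype.ext h1, orderOf_one] at hu; omega
    have hfix : ∀ n ∈ normalizer ((S : Subgroup G) : Set G),
        n * ((u : ↥(S : Subgroup G)) : G) * n⁻¹ = ((u : ↥(S : Subgroup G)) : G) := by
      intro n hn'
      set b : ↥(S : Subgroup G) := ⟨_, (mem_normalizer_iff.mp hn' _).mp (u : ↥(S : Subgroup G)).2⟩ with hb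
      have hbD : b ∈ D := hDinv n hn' _ u.2 b rfl
      have h3 : ∀ w : D, w = 1 ∨ w = u := by
        intro w
        obtain ⟨a, c, hac, hall⟩ := Nat.card_eq_two_iff.mp hD2
        have hu1 : u ≠ 1 := fun h1 => hune (congrArg Subtype.val h1)
        have hw : w = a ∨ w = c := by simpa using (hall ▸ Set.mem_univ w : w ∈ ({a, c} : Set D))
        have h1' : (1 : D) = a ∨ (1 : D) = c := by simpa using (hall ▸ Set.mem_univ (1 : D) : (1 : D) ∈ ({a, c} : Set D))
        have hu' : u = a ∨ u = c := by simpa using (hall ▸ Set.mem_univ u : u ∈ ({a, c} : Set D))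
        grind
      rcases h3 ⟨b, hbD⟩ with h1 | h1
      · exfalso
        have : b = 1 := congrArg Subtype.val h1
        exact hune (Subtype.ext (conj_eq_one_iff.mp (congrArg Subtype.val this)))
      · exact congrArg (fun w : D => ((w : ↥(S : Subgroup G)) : G)) h1
    exact hune (Subtype.ext (eq_one_of_fixed hG S (u : ↥(S : Subgroup G)).2 hfix))
  · exfalso
    have h2 := Cfsg.Agent.S0201.result S 0 e fun N hN hodd => hN.eq_bot_or_eq_top.resolve_right fun htop => by
      rw [htop, card_top] at hodd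
      exact absurd ((even_iff_two_dvd.2 ((show 2 ∣ 8 by norm_num).trans (h8 ▸ card_subgroup_dvd_card _)) : Even (Nat.card G)))
        (Nat.not_even_iff_odd.2 hodd)
    rw [center_eq_bot hG, card_bot] at h2
    omega
  · exact Or.inr h


theorem comm_of_exp_two {H : Subgroup G} (h : ∀ x ∈ H, x * x = 1) : IsMulCommutative H :=
  ⟨⟨fun a b => by
    have e : ∀ z : H, z⁻¹ = z := fun z => inv_eq_of_mul_eq_one_right (Subtype.ext (h z z.2))
    calc a * b = (a * b)⁻¹ := (e _).symm
      _ = b * a := by rw [mul_inv_rev, e, e]⟩⟩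

/-- The number of the exponent of two in the order of a group with Sylow subgroup of order eight. -/
theorem card_mod_sixteen (S : Sylow 2 G) (h8 : Nat.card (S : Subgroup G) = 8) : Nat.card G % 16 = 8 := by
  haveI : Fact (Nat.Prime 2) := ⟨Nat.prime_two⟩
  have h1 := card_mul_index (S : Subgroup G)
  have h2 := S.not_dvd_index
  rw [h8] at h1
  omega

/-- Simple groups with Sylow 2-subgroups of order eight, given the abelian case. -/
theorem card_eight_of_walter (hW : WalterStatement.{u}) (hG : ¬ IsMulCommutative G) (T : Sylow 2 G)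
    (hT : Nat.card (T : Subgroup G) = 8) :
    (∃ (F : Type) (_ : Field F) (_ : Fintype F), Fintype.card F = 8 ∧ Nonempty (G ≃* Matrix.ProjectiveSpecialLinearGroup (Fin 2) F)) ∨ (∃ (F : Type) (_ : Field F) (_ : Fintype F), (Fintype.card F % 16 = 7 ∨ Fintype.card F % 16 = 9) ∧ Nonempty (G ≃* Matrix.ProjectiveSpecialLinearGroup (Fin 2) F)) ∨ Nonempty (G ≃* alternatingGroup (Fin 7)) ∨ Cfsg.IsJ1 G ∨ Cfsg.IsRee G := by
  have h16 := card_mod_sixteen T hT
  rcases eight_cases hG T hT with h | ⟨⟨e⟩⟩
  · rcases hW G hG T (comm_of_exp_two h) with ⟨a, ha, F, i1, i2, hF, ⟨f⟩⟩ | ⟨F, i1, i2, hF, ⟨f⟩⟩ | h | h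
    · refine Or.inl ⟨F, i1, i2, ?_, ⟨f⟩⟩
      have hev : Even (Nat.card F) := by
        rw [Nat.card_eq_fintype_card, hF]; exact Nat.even_pow.2 ⟨even_two, by omega⟩
      have := PSLClassSizes.card_psl_even hev
      rw [← Nat.card_congr f.toEquiv, Nat.card_eq_fintype_card (α := F), hF] at this
      rw [hF]
      rcases eq_or_ne a 3 with rfl | ha3
      · rfl
      exfalso
      rcases eq_or_ne a 2 with rfl | ha2
      · norm_num at this; omega
      · obtain ⟨b, rfl⟩ : ∃ b, a = b + 4 := ⟨a - 4, by omega⟩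
        have h3 : (2 ^ (b + 4)) ^ 3 = 16 * (2 ^ (3 * b + 8)) := by ring
        have h4 : 2 ^ (b + 4) = 16 * 2 ^ b := by ring
        rw [h3, h4] at this
        omega
    · exfalso
      have hodd : Odd (Nat.card F) := by rw [Nat.card_eq_fintype_card, Nat.odd_iff]; omega
      have := PSLClassSizes.card_psl_odd hodd
      rw [← Nat.card_congr f.toEquiv, Nat.card_eq_fintype_card (α := F)] at this
      have key : ∀ x : ZMod 16, x.val % 8 = 3 ∨ x.val % 8 = 5 → x ^ 3 ≠ x := by decide
      refine key (Fintype.card F : ZMod 16) (by rw [ZMod.val_natCast]; omega) ?_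
      have h3 := congrArg (Nat.cast : ℕ → ZMod 16) this
      push_cast at h3
      have h0 : (2 * (Nat.card G : ZMod 16)) = 0 := by
        rw [← ZMod.natCast_mod (Nat.card G) 16, h16]; decide
      rw [h0, zero_add] at h3
      exact h3.symm
    · exact Or.inr (Or.inr (Or.inr (Or.inr h)))
    · exact Or.inr (Or.inr (Or.inr (Or.inl h)))
  · rcases GWDihedral.dihedralGW G inferInstance hG T 4 (by norm_num) ⟨e⟩ with ⟨F, i1, i2, hodd, ⟨f⟩⟩ | h
    · refine Or.inr (Or.inl ⟨F, i1, i2, ?_, ⟨f⟩⟩)
      have := PSLClassSizes.card_psl_odd (K := F) (by rwa [Nat.card_eq_fintype_card])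
      rw [← Nat.card_congr f.toEquiv, Nat.card_eq_fintype_card (α := F)] at this
      have key : ∀ x : ZMod 32, x.val % 2 = 1 → 16 + x = x ^ 3 → x.val % 16 = 7 ∨ x.val % 16 = 9 := by decide
      have h3 := congrArg (Nat.cast : ℕ → ZMod 32) this
      push_cast at h3
      have h0 : (2 * (Nat.card G : ZMod 32)) = 16 := by
        obtain ⟨k, hk⟩ : ∃ k, Nat.card G = 16 * k + 8 := ⟨Nat.card G / 16, by omega⟩
        rw [hk]; push_cast
        rw [mul_add, ← mul_assoc, show (2 * 16 : ZMod 32) = 0 by decide, zero_mul, zero_add]; decide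
      rw [h0] at h3
      have hv := key (Fintype.card F : ZMod 32) (by rw [ZMod.val_natCast]; have := Nat.odd_iff.1 hodd; omega) h3
      rw [ZMod.val_natCast] at hv
      omega
    · exact Or.inr (Or.inr (Or.inl h))

end Cfsg.Agent.AbelianSylowUse
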